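import Cfsg.Agent.FiC.F22.Iso
import Cfsg.Agent.FiC.Glu6

set_option autoImplicit false
set_option maxRecDepth 100000
set_option synthInstance.maxSize 2048
set_option Elab.async false
set_option linter.unusedSectionVars false
set_option linter.unusedVariables false

namespace Cfsg.Agent.FiC.F22
open Cfsg.Agent.Comp Cfsg.Agent.FiC

variable {G : Type*} [Group G] [Finite G] {D : Set G} {τ s : ℕ → G}

variable {M : Subgroup G}

theorem afp1 (b : Cx τ s M d0) (hM : M ≤ NS τ (nat_lit 3510)) : FP τ (nat_lit 3510) (NS τ (nat_lit 3510)) s [[nat_lit 25, nat_lit 4, nat_lit 24], [nat_lit 32, nat_lit 6, nat_lit 33], [nat_lit 6], [nat_lit 21, nat_lit 8, nat_lit 20], [nat_lit 0], [nat_lit 44]] [[nat_lit 32, nat_lit 6, nat_lit 33], [nat_lit 25, nat_lit 4, nat_lit 24], [nat_lit 21, nat_lit 8, nat_lit 20], [nat_lit 6], [nat_lit 44], [nat_lit 0]] :=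
  FP.br b hM le_rfl _ _ (nat_lit 127) [] [nat_lit 26, nat_lit 8, nat_lit 27] (SE.diff (SE.and (SE.fx [nat_lit 4, nat_lit 8]) (SE.fx [nat_lit 0])) (SE.fx [nat_lit 2])) [] FPs.nil (by decide +kernel)

theorem afp2 (b : Cx τ s M d0) (hM : M ≤ NS τ (nat_lit 3510)) : FP τ (nat_lit 3510) (NS τ (nat_lit 3510)) s [[nat_lit 6], [nat_lit 21, nat_lit 8, nat_lit 20], [nat_lit 0], [nat_lit 44]] [[nat_lit 21, nat_lit 8, nat_lit 20], [nat_lit 6], [nat_lit 44], [nat_lit 0]] :=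
  FP.br b hM le_rfl _ _ (nat_lit 31) [[nat_lit 51, nat_lit 52, nat_lit 55, nat_lit 10, nat_lit 16, nat_lit 12], [nat_lit 40, nat_lit 35, nat_lit 32, nat_lit 43, nat_lit 39, nat_lit 42, nat_lit 16]] [nat_lit 25, nat_lit 4, nat_lit 24] (SE.and (SE.fx [nat_lit 0, nat_lit 6]) (SE.fx [nat_lit 2, nat_lit 4])) [([nat_lit 32, nat_lit 6, nat_lit 33], [nat_lit 0, nat_lit 1])] (FPs.cons (afp1 b hM) FPs.nil) (by decide +kernel)

theorem afp3 (b : Cx τ s M d0) (hM : M ≤ NS τ (nat_lit 3510)) : FP τ (nat_lit 3510) (NS τ (nat_lit 3510)) s [[nat_lit 0], [nat_lit 44]] [[nat_lit 44], [nat_lit 0]] :=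
  FP.br b hM le_rfl _ _ (nat_lit 7) [[nat_lit 0], [nat_lit 25, nat_lit 30, nat_lit 50, nat_lit 34, nat_lit 32, nat_lit 34, nat_lit 12, nat_lit 35, nat_lit 16], [nat_lit 10, nat_lit 27, nat_lit 48, nat_lit 31, nat_lit 43, nat_lit 34, nat_lit 40, nat_lit 8, nat_lit 43]] [nat_lit 6] (SE.diff (SE.fx [nat_lit 0]) (SE.fx [nat_lit 2])) [([nat_lit 21, nat_lit 8, nat_lit 20], [nat_lit 0, nat_lit 1, nat_lit 2, nat_lit 1, nat_lit 1, nat_lit 2, nat_lit 1, nat_lit 2, nat_lit 1, nat_lit 1, nat_lit 1, nat_lit 2])] (FPs.cons (afp2 b hM) FPs.nil) (by decide +kernel)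

theorem afp4 (b : Cx τ s M d0) (hM : M ≤ NS τ (nat_lit 3510)) : FP τ (nat_lit 3510) (NS τ (nat_lit 3510)) s [] [] :=
  FP.br b hM le_rfl _ _ (nat_lit 1) [[nat_lit 4], [nat_lit 10], [nat_lit 14], [nat_lit 24], [nat_lit 26], [nat_lit 30], [nat_lit 36], [nat_lit 50], [nat_lit 52], [nat_lit 56]] [nat_lit 0] SE.all [([nat_lit 44], [nat_lit 0, nat_lit 1, nat_lit 2, nat_lit 3, nat_lit 4, nat_lit 5, nat_lit 6, nat_lit 8, nat_lit 9, nat_lit 7, nat_lit 4, nat_lit 3])] (FPs.cons (afp3 b hM) FPs.nil) (by decide +kernel)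

theorem fix_inv (b : Base D τ s d0 64561751654400) (c : Fischer.Cl D) (hz : Subgroup.center G = ⊥)
    {φ : MulAut G} (h1 : φ * φ = 1) (h2 : ∀ a ∈ D, φ a ∈ D) : ∃ a ∈ D, φ a = a :=
  b.fix_aut c (fun _ _ _ b hM => (afp4 b hM)) hz h1 h2

end Cfsg.Agent.FiC.F22
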