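import Cfsg.Agent.FiC.F22.Iso
import Cfsg.Agent.FiC.Tup

set_option autoImplicit false
set_option maxRecDepth 100000
set_option linter.unusedSectionVars false

namespace Cfsg.Agent.FiC.F22
open Cfsg.Agent.Comp Cfsg.Agent.FiC

variable {G : Type*} [Group G] [Finite G] {D : Set G} {τ s : ℕ → G}

theorem tr1 (b : Base D τ s d0 64561751654400) : TrU D s [[nat_lit 0]] :=
  b.trU (TrU.nil _ _) _ (nat_lit 0) [[nat_lit 2], [nat_lit 18], [nat_lit 20], [nat_lit 22], [nat_lit 24], [nat_lit 26], [nat_lit 28], [nat_lit 32], [nat_lit 36], [nat_lit 50], [nat_lit 56]] [nat_lit 0, nat_lit 1, nat_lit 2, nat_lit 3, nat_lit 4, nat_lit 5, nat_lit 7, nat_lit 8, nat_lit 1, nat_lit 6, nat_lit 9, nat_lit 10, nat_lit 3, nat_lit 7, nat_lit 1] (by decide +kernel)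

theorem tr2 (b : Base D τ s d0 64561751654400) : TrU D s [[nat_lit 4], [nat_lit 0]] :=
  b.trU (tr1 b) _ (nat_lit 1) [[nat_lit 6], [nat_lit 24], [nat_lit 26], [nat_lit 28], [nat_lit 30], [nat_lit 32], [nat_lit 46], [nat_lit 50], [nat_lit 52]] [nat_lit 0, nat_lit 1, nat_lit 2, nat_lit 3, nat_lit 6, nat_lit 7, nat_lit 4, nat_lit 8, nat_lit 2, nat_lit 6, nat_lit 5, nat_lit 1] (by decide +kernel)

theorem tr3 (b : Base D τ s d0 64561751654400) : TrU D s [[nat_lit 8], [nat_lit 4], [nat_lit 0]] :=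
  b.trU (tr2 b) _ (nat_lit 3) [[nat_lit 8], [nat_lit 10], [nat_lit 12], [nat_lit 30], [nat_lit 32], [nat_lit 36], [nat_lit 42]] [nat_lit 1, nat_lit 3, nat_lit 4, nat_lit 0, nat_lit 2, nat_lit 5, nat_lit 3, nat_lit 4, nat_lit 6, nat_lit 1] (by decide +kernel)

theorem yge1 (b : Base D τ s d0 64561751654400) : GE s [[nat_lit 48, nat_lit 38, nat_lit 10, nat_lit 8, nat_lit 42, nat_lit 16], [nat_lit 16, nat_lit 37, nat_lit 46, nat_lit 41, nat_lit 32, nat_lit 10, nat_lit 37, nat_lit 34, nat_lit 16, nat_lit 12], [nat_lit 51, nat_lit 28, nat_lit 39, nat_lit 30, nat_lit 37, nat_lit 39, nat_lit 14, nat_lit 16, nat_lit 12]] 16 :=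
  GE.step b.x (GE.base []) _ [] (nat_lit 1) [nat_lit 0, nat_lit 2, nat_lit 1, nat_lit 0, nat_lit 0] (nat_lit 16) 16 (by decide +kernel)

theorem yge2 (b : Base D τ s d0 64561751654400) : GE s [[nat_lit 42, nat_lit 38, nat_lit 17, nat_lit 11, nat_lit 39, nat_lit 53, nat_lit 41], [nat_lit 48, nat_lit 38, nat_lit 10, nat_lit 8, nat_lit 42, nat_lit 16], [nat_lit 13, nat_lit 17, nat_lit 38, nat_lit 17, nat_lit 11, nat_lit 41, nat_lit 11, nat_lit 50, nat_lit 40]] 3888 :=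
  GE.step b.x (yge1 b) _ [([nat_lit 16, nat_lit 37, nat_lit 46, nat_lit 41, nat_lit 32, nat_lit 10, nat_lit 37, nat_lit 34, nat_lit 16, nat_lit 12], [nat_lit 4, nat_lit 2, nat_lit 5, nat_lit 0]), ([nat_lit 51, nat_lit 28, nat_lit 39, nat_lit 30, nat_lit 37, nat_lit 39, nat_lit 14, nat_lit 16, nat_lit 12], [nat_lit 3, nat_lit 3, nat_lit 7, nat_lit 5, nat_lit 2])] (nat_lit 670) [nat_lit 0, nat_lit 2, nat_lit 1, nat_lit 0, nat_lit 1, nat_lit 0, nat_lit 1, nat_lit 2, nat_lit 0, nat_lit 1, nat_lit 0, nat_lit 1, nat_lit 1, nat_lit 1] (nat_lit 243) 3888 (by decide +kernel)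

theorem yge3 (b : Base D τ s d0 64561751654400) : GE s [[nat_lit 13, nat_lit 15, nat_lit 17, nat_lit 39, nat_lit 11, nat_lit 13, nat_lit 7, nat_lit 53, nat_lit 13], [nat_lit 36, nat_lit 29, nat_lit 41, nat_lit 36, nat_lit 10, nat_lit 36, nat_lit 34, nat_lit 34, nat_lit 39, nat_lit 42], [nat_lit 24, nat_lit 6, nat_lit 34, nat_lit 30, nat_lit 43, nat_lit 37, nat_lit 39, nat_lit 40, nat_lit 43, nat_lit 12]] 6531840 :=
  GE.step b.x (yge2 b) _ [([nat_lit 42, nat_lit 38, nat_lit 17, nat_lit 11, nat_lit 39, nat_lit 53, nat_lit 41], [nat_lit 1, nat_lit 2, nat_lit 4, nat_lit 2, nat_lit 2]), ([nat_lit 48, nat_lit 38, nat_lit 10, nat_lit 8, nat_lit 42, nat_lit 16], [nat_lit 2, nat_lit 4, nat_lit 4, nat_lit 2, nat_lit 4, nat_lit 4]), ([nat_lit 13, nat_lit 17, nat_lit 38, nat_lit 17, nat_lit 11, nat_lit 41, nat_lit 11, nat_lit 50, nat_lit 40], [nat_lit 6, nat_lit 5, nat_lit 8, nat_lit 4, nat_lit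 7, nat_lit 7])] (nat_lit 855) [nat_lit 0, nat_lit 1, nat_lit 2, nat_lit 0, nat_lit 1, nat_lit 2, nat_lit 0, nat_lit 1, nat_lit 2, nat_lit 0, nat_lit 1, nat_lit 2, nat_lit 0, nat_lit 1, nat_lit 0, nat_lit 0] (nat_lit 1680) 6531840 (by decide +kernel)

theorem yge4 (b : Base D τ s d0 64561751654400) : GE s [[nat_lit 55, nat_lit 6, nat_lit 14, nat_lit 42, nat_lit 16, nat_lit 12], [nat_lit 51, nat_lit 57, nat_lit 41, nat_lit 10, nat_lit 40, nat_lit 43, nat_lit 16]] 6531840 :=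
  GE.sub b.x (yge3 b) _ [([nat_lit 13, nat_lit 15, nat_lit 17, nat_lit 39, nat_lit 11, nat_lit 13, nat_lit 7, nat_lit 53, nat_lit 13], [nat_lit 3, nat_lit 2, nat_lit 1, nat_lit 2, nat_lit 3, nat_lit 3]), ([nat_lit 36, nat_lit 29, nat_lit 41, nat_lit 36, nat_lit 10, nat_lit 36, nat_lit 34, nat_lit 34, nat_lit 39, nat_lit 42], [nat_lit 3, nat_lit 5, nat_lit 5, nat_lit 4, nat_lit 4, nat_lit 3]), ([nat_lit 24, nat_lit 6, nat_lit 34, nat_lit 30, nat_lit 43, nat_lit 37, nat_lit 39, nat_lit 40, nat_lit 43, nat_lit 12], [nat_lit 7, nat_lit 7, nat_lit 4, nat_lit 5, nat_lit 5, nat_lit 4])] (by decide +kernel)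

theorem yge5 (b : Base D τ s d0 64561751654400) : GE s [[nat_lit 13, nat_lit 43, nat_lit 39, nat_lit 40, nat_lit 34, nat_lit 39, nat_lit 11, nat_lit 31, nat_lit 35, nat_lit 29, nat_lit 42], [nat_lit 55, nat_lit 6, nat_lit 14, nat_lit 42, nat_lit 16, nat_lit 12], [nat_lit 57, nat_lit 53, nat_lit 51, nat_lit 38, nat_lit 33, nat_lit 34, nat_lit 39, nat_lit 34, nat_lit 34, nat_lit 12]] 18393661440 :=
  GE.step b.x (yge4 b) _ [([nat_lit 51, nat_lit 57, nat_lit 41, nat_lit 10, nat_lit 40, nat_lit 43, nat_lit 16], [nat_lit 5, nat_lit 0, nat_lit 2, nat_lit 4])] (nat_lit 694) [nat_lit 2, nat_lit 0, nat_lit 1, nat_lit 2, nat_lit 1, nat_lit 0, nat_lit 1, nat_lit 2, nat_lit 1, nat_lit 0, nat_lit 1, nat_lit 2, nat_lit 1, nat_lit 0, nat_lit 1, nat_lit 1, nat_lit 1, nat_lit 1, nat_lit 1, nat_lit 1, nat_lit 1] (nat_lit 2816) 18393661440 (by decide +kernel)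

theorem yge6 (b : Base D τ s d0 64561751654400) : GE s [[nat_lit 44], [nat_lit 14], [nat_lit 6], [nat_lit 8], [nat_lit 4], [nat_lit 16], [nat_lit 12], [nat_lit 55, nat_lit 12, nat_lit 54]] 18393661440 :=
  GE.sub b.x (yge5 b) _ [([nat_lit 13, nat_lit 43, nat_lit 39, nat_lit 40, nat_lit 34, nat_lit 39, nat_lit 11, nat_lit 31, nat_lit 35, nat_lit 29, nat_lit 42], [nat_lit 2, nat_lit 5, nat_lit 1, nat_lit 9, nat_lit 0, nat_lit 8, nat_lit 15]), ([nat_lit 55, nat_lit 6, nat_lit 14, nat_lit 42, nat_lit 16, nat_lit 12], [nat_lit 14, nat_lit 15, nat_lit 14, nat_lit 16, nat_lit 6, nat_lit 13, nat_lit 5]), ([nat_lit 57, nat_lit 53, nat_lit 51, nat_lit 38, nat_lit 33, nat_lit 34, nat_lit 39, nat_lit 34, nat_lit 34, nat_lit 12], [nat_lit 5, nat_lit 8, nat_lit 19, nat_lit 10, nat_lit 12, nat_lit 17, nat_lit 13])] (by decide +kernel)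

noncomputable def caW : List (List Nat) := [[nat_lit 44], [nat_lit 14], [nat_lit 6], [nat_lit 8], [nat_lit 4], [nat_lit 16], [nat_lit 12], [nat_lit 55, nat_lit 12, nat_lit 54]]

theorem ca (b : Base D τ s d0 64561751654400) : Cen ⊤ s [[nat_lit 0]] = genW (sv s) caW ∧ Nat.card (genW (sv s) caW) = 18393661440 :=
  CU.eq b.x le_rfl (zcu7 b) (yge6 b) (nat_lit 1) (by decide +kernel)

theorem cla (b : Base D τ s d0 64561751654400) : Subgroup.closure {y : G | y ∈ D ∧ y ≠ E s [nat_lit 0] ∧ Commute (E s [nat_lit 0]) y} = genW (sv s) caW :=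
  b.closure_eq _ _ (fun _ h => h.1) (b.cm_mem _) _ [([nat_lit 44], [nat_lit 1, nat_lit 4, nat_lit 6, nat_lit 0, nat_lit 2, nat_lit 5, nat_lit 3, nat_lit 0, nat_lit 7, nat_lit 5, nat_lit 1, nat_lit 6, nat_lit 4, nat_lit 2, nat_lit 0, nat_lit 5, nat_lit 3, nat_lit 1, nat_lit 0, nat_lit 4])] (by decide +kernel)

theorem perfa (b : Base D τ s d0 64561751654400) : Group.IsPerfect (genW (sv s) caW) :=
  Cx.perfect b.x _ [nat_lit 44] [nat_lit 1, nat_lit 4, nat_lit 6, nat_lit 0, nat_lit 2, nat_lit 5, nat_lit 3, nat_lit 0, nat_lit 7, nat_lit 5, nat_lit 1, nat_lit 6, nat_lit 4, nat_lit 2, nat_lit 0, nat_lit 5, nat_lit 3, nat_lit 1, nat_lit 0, nat_lit 4] [nat_lit 6, nat_lit 4, nat_lit 14, nat_lit 10, nat_lit 0, nat_lit 12, nat_lit 2, nat_lit 6, nat_lit 4, nat_lit 14, nat_lit 10, nat_lit 0, nat_lit 12, nat_lit 2, nat_lit 6, nat_lit 4, nat_lit 14, nat_lit 10, nat_lit 0, nat_lit 12, nat_lit 2,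 nat_lit 6, nat_lit 4, nat_lit 14, nat_lit 10, nat_lit 0, nat_lit 12, nat_lit 2, nat_lit 6, nat_lit 4, nat_lit 14, nat_lit 10, nat_lit 0, nat_lit 12, nat_lit 2, nat_lit 6, nat_lit 4, nat_lit 14, nat_lit 10, nat_lit 0, nat_lit 12, nat_lit 2, nat_lit 6, nat_lit 4, nat_lit 14, nat_lit 10, nat_lit 0, nat_lit 12, nat_lit 2] (by decide +kernel)

theorem ycu7 (b : Base D τ s d0 64561751654400) : CU ⊤ s [[nat_lit 57, nat_lit 48, nat_lit 6, nat_lit 49, nat_lit 56], [nat_lit 6], [nat_lit 2], [nat_lit 8], [nat_lit 4], [nat_lit 0]] 2 :=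
  CU.down b.x le_rfl (zcu16 b) (nat_lit 31) [[nat_lit 12], [nat_lit 16], [nat_lit 42]] [nat_lit 57, nat_lit 48, nat_lit 6, nat_lit 49, nat_lit 56] [nat_lit 0, nat_lit 1, nat_lit 2] (nat_lit 6) 2 (by decide +kernel)

theorem ycu8 (b : Base D τ s d0 64561751654400) : CU ⊤ s [[nat_lit 44], [nat_lit 14], [nat_lit 6], [nat_lit 8], [nat_lit 4], [nat_lit 16], [nat_lit 12], [nat_lit 55, nat_lit 12, nat_lit 54]] 2 :=
  CU.mono b.x le_rfl (ycu7 b) [[nat_lit 44], [nat_lit 14], [nat_lit 6], [nat_lit 8], [nat_lit 4], [nat_lit 16], [nat_lit 12], [nat_lit 55, nat_lit 12, nat_lit 54]] [nat_lit 22, nat_lit 20, nat_lit 40, nat_lit 54, nat_lit 16, nat_lit 30, nat_lit 34, nat_lit 42, nat_lit 37, nat_lit 0, nat_lit 42, nat_lit 16] [[nat_lit 10], [nat_lit 12], [nat_lit 4], [nat_lit 14], [nat_lit 0], [nat_lit 6]] (by decide +kernel)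

theorem yge9 (b : Base D τ s d0 64561751654400) : GE s [[nat_lit 0]] 2 :=
  GE.step b.x (GE.base []) _ [] (nat_lit 694) [nat_lit 0] (nat_lit 2) 2 (by decide +kernel)

theorem zca (b : Base D τ s d0 64561751654400) : Cen ⊤ s caW = genW (sv s) [[nat_lit 0]] :=
  (CU.eq b.x le_rfl (ycu8 b) (yge9 b) (nat_lit 255) (by decide +kernel)).1

theorem yge10 (b : Base D τ s d0 64561751654400) : GE s [[nat_lit 43, nat_lit 39, nat_lit 42, nat_lit 12], [nat_lit 39], [nat_lit 38, nat_lit 12]] 16 :=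
  GE.step b.x (GE.base []) _ [] (nat_lit 12) [nat_lit 1, nat_lit 1, nat_lit 2, nat_lit 1, nat_lit 0] (nat_lit 16) 16 (by decide +kernel)

theorem yge11 (b : Base D τ s d0 64561751654400) : GE s [[nat_lit 9, nat_lit 38, nat_lit 40, nat_lit 10, nat_lit 38, nat_lit 14, nat_lit 38, nat_lit 16], [nat_lit 8, nat_lit 10, nat_lit 8, nat_lit 42, nat_lit 16, nat_lit 12], [nat_lit 40, nat_lit 10, nat_lit 40, nat_lit 43, nat_lit 12]] 11520 :=
  GE.step b.x (yge10 b) _ [([nat_lit 43, nat_lit 39, nat_lit 42, nat_lit 12], [nat_lit 1, nat_lit 5]), ([nat_lit 39], [nat_lit 3, nat_lit 5, nat_lit 7, nat_lit 7, nat_lit 5, nat_lit 3]), ([nat_lit 38, nat_lit 12], [nat_lit 6, nat_lit 8, nat_lit 4, nat_lit 9, nat_lit 6, nat_lit 8, nat_lit 8])] (nat_lit 1398) [nat_lit 2, nat_lit 1, nat_lit 2, nat_lit 1, nat_lit 2, nat_lit 0, nat_lit 2, nat_lit 1, nat_lit 2, nat_lit 1, nat_lit 2, nat_lit 1, nat_lit 2, nat_lit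 0, nat_lit 2, nat_lit 2] (nat_lit 720) 11520 (by decide +kernel)

theorem yge12 (b : Base D τ s d0 64561751654400) : GE s [[nat_lit 11, nat_lit 14, nat_lit 30, nat_lit 4, nat_lit 14, nat_lit 16], [nat_lit 17, nat_lit 9, nat_lit 1, nat_lit 36, nat_lit 43, nat_lit 11, nat_lit 42, nat_lit 37], [nat_lit 43, nat_lit 38, nat_lit 17, nat_lit 1, nat_lit 35, nat_lit 17, nat_lit 11, nat_lit 32, nat_lit 40]] 26542080 :=
  GE.step b.x (yge11 b) _ [([nat_lit 9, nat_lit 38, nat_lit 40, nat_lit 10, nat_lit 38, nat_lit 14, nat_lit 38, nat_lit 16], [nat_lit 3, nat_lit 4, nat_lit 0, nat_lit 0, nat_lit 3, nat_lit 5]), ([nat_lit 8, nat_lit 10, nat_lit 8, nat_lit 42, nat_lit 16, nat_lit 12], [nat_lit 6, nat_lit 2, nat_lit 6, nat_lit 6, nat_lit 3, nat_lit 6]), ([nat_lit 40, nat_lit 10, nat_lit 40, nat_lit 43, nat_lit 12], [nat_lit 4, nat_lit 9, nat_lit 6, nat_lit 4, nat_lit 4, nat_lit 9, nat_lit 4])]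 (nat_lit 694) [nat_lit 0, nat_lit 1, nat_lit 0, nat_lit 2, nat_lit 0, nat_lit 1, nat_lit 0, nat_lit 2, nat_lit 0, nat_lit 1, nat_lit 0, nat_lit 2, nat_lit 0, nat_lit 1, nat_lit 0, nat_lit 0, nat_lit 0, nat_lit 0] (nat_lit 2304) 26542080 (by decide +kernel)

theorem yge13 (b : Base D τ s d0 64561751654400) : GE s [[nat_lit 0], [nat_lit 4], [nat_lit 8], [nat_lit 10], [nat_lit 12], [nat_lit 14], [nat_lit 16], [nat_lit 30]] 26542080 :=
  GE.sub b.x (yge12 b) _ [([nat_lit 11, nat_lit 14, nat_lit 30, nat_lit 4, nat_lit 14, nat_lit 16], [nat_lit 11, nat_lit 7, nat_lit 14, nat_lit 10, nat_lit 2, nat_lit 12]), ([nat_lit 17, nat_lit 9, nat_lit 1, nat_lit 36, nat_lit 43, nat_lit 11, nat_lit 42, nat_lit 37], [nat_lit 16, nat_lit 10, nat_lit 2, nat_lit 17, nat_lit 6, nat_lit 14]), ([nat_lit 43, nat_lit 38, nat_lit 17, nat_lit 1, nat_lit 35, nat_lit 17, nat_lit 11, nat_lit 32, nat_lit 40], [nat_lit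 15, nat_lit 19, nat_lit 8, nat_lit 17, nat_lit 11, nat_lit 7])] (by decide +kernel)

noncomputable def ccaW : List (List Nat) := [[nat_lit 0], [nat_lit 4], [nat_lit 8], [nat_lit 10], [nat_lit 12], [nat_lit 14], [nat_lit 16], [nat_lit 30]]

theorem cca (b : Base D τ s d0 64561751654400) : Cen ⊤ s [[nat_lit 4], [nat_lit 0]] = genW (sv s) ccaW ∧ Nat.card (genW (sv s) ccaW) = 26542080 :=
  CU.eq b.x le_rfl (zcu8 b) (yge13 b) (nat_lit 3) (by decide +kernel)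

theorem yge14 (b : Base D τ s d0 64561751654400) : GE s [[nat_lit 34, nat_lit 34], [nat_lit 12, nat_lit 35, nat_lit 0, nat_lit 14, nat_lit 38, nat_lit 42], [nat_lit 37, nat_lit 38, nat_lit 37, nat_lit 38, nat_lit 16]] 96 :=
  GE.step b.x (GE.base []) _ [] (nat_lit 1) [nat_lit 0, nat_lit 0, nat_lit 2, nat_lit 0, nat_lit 0, nat_lit 1, nat_lit 0, nat_lit 0, nat_lit 2, nat_lit 0, nat_lit 2] (nat_lit 96) 96 (by decide +kernel)

theorem yge15 (b : Base D τ s d0 64561751654400) : GE s [[nat_lit 14, nat_lit 34, nat_lit 16, nat_lit 12], [nat_lit 34, nat_lit 40, nat_lit 37, nat_lit 16, nat_lit 38, nat_lit 16], [nat_lit 34, nat_lit 34]] 147456 :=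
  GE.step b.x (yge14 b) _ [([nat_lit 12, nat_lit 35, nat_lit 0, nat_lit 14, nat_lit 38, nat_lit 42], [nat_lit 0, nat_lit 2, nat_lit 0, nat_lit 4, nat_lit 1, nat_lit 3, nat_lit 1]), ([nat_lit 37, nat_lit 38, nat_lit 37, nat_lit 38, nat_lit 16], [nat_lit 5, nat_lit 6, nat_lit 3, nat_lit 7, nat_lit 4, nat_lit 3, nat_lit 6, nat_lit 3])] (nat_lit 2506) [nat_lit 0, nat_lit 2, nat_lit 0, nat_lit 2, nat_lit 1, nat_lit 2, nat_lit 0, nat_lit 2, nat_lit 0, nat_lit 2, nat_lit 1, nat_lit 2, nat_lit 0, nat_lit 2, nat_lit 2, nat_lit 0, nat_lit 2, nat_lit 2, nat_lit 0, nat_lit 2] (nat_lit 1536) 147456 (by decide +kernel)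

theorem yge16 (b : Base D τ s d0 64561751654400) : GE s [[nat_lit 0], [nat_lit 4], [nat_lit 8], [nat_lit 12], [nat_lit 14], [nat_lit 16], [nat_lit 34]] 147456 :=
  GE.sub b.x (yge15 b) _ [([nat_lit 14, nat_lit 34, nat_lit 16, nat_lit 12], [nat_lit 9, nat_lit 12, nat_lit 5, nat_lit 11, nat_lit 6, nat_lit 11, nat_lit 11, nat_lit 5]), ([nat_lit 34, nat_lit 40, nat_lit 37, nat_lit 16, nat_lit 38, nat_lit 16], [nat_lit 6, nat_lit 11, nat_lit 8, nat_lit 8, nat_lit 14, nat_lit 5, nat_lit 11, nat_lit 14]), ([nat_lit 34, nat_lit 34], [nat_lit 12, nat_lit 13, nat_lit 14, nat_lit 14, nat_lit 16, nat_lit 16, nat_lit 12, nat_lit 12])] (by decide +kernel)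

noncomputable def cecaW : List (List Nat) := [[nat_lit 0], [nat_lit 4], [nat_lit 8], [nat_lit 12], [nat_lit 14], [nat_lit 16], [nat_lit 34]]

theorem ceca (b : Base D τ s d0 64561751654400) : Cen ⊤ s [[nat_lit 8], [nat_lit 4], [nat_lit 0]] = genW (sv s) cecaW ∧ Nat.card (genW (sv s) cecaW) = 147456 :=
  CU.eq b.x le_rfl (zcu9 b) (yge16 b) (nat_lit 7) (by decide +kernel)

theorem ycu17 (b : Base D τ s d0 64561751654400) : CU ⊤ s [[nat_lit 23, nat_lit 37, nat_lit 2, nat_lit 36, nat_lit 22], [nat_lit 6], [nat_lit 2], [nat_lit 0]] 36 :=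
  CU.down b.x le_rfl (zcu12 b) (nat_lit 7) [[nat_lit 6], [nat_lit 10], [nat_lit 12], [nat_lit 16], [nat_lit 42], [nat_lit 50], [nat_lit 52], [nat_lit 54]] [nat_lit 23, nat_lit 37, nat_lit 2, nat_lit 36, nat_lit 22] [nat_lit 0, nat_lit 1, nat_lit 2, nat_lit 3, nat_lit 4, nat_lit 5, nat_lit 7, nat_lit 6, nat_lit 4, nat_lit 7, nat_lit 5, nat_lit 6, nat_lit 4, nat_lit 1] (nat_lit 1440) 36 (by decide +kernel)

theorem ycu18 (b : Base D τ s d0 64561751654400) : CU ⊤ s [[nat_lit 46, nat_lit 34, nat_lit 2, nat_lit 35, nat_lit 47], [nat_lit 23, nat_lit 37, nat_lit 2, nat_lit 36, nat_lit 22], [nat_lit 6], [nat_lit 2], [nat_lit 0]] 1 :=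
  CU.down b.x le_rfl (ycu17 b) (nat_lit 15) [[nat_lit 41, nat_lit 6, nat_lit 40], [nat_lit 17, nat_lit 55, nat_lit 42, nat_lit 16], [nat_lit 57, nat_lit 54, nat_lit 54, nat_lit 6, nat_lit 10, nat_lit 43], [nat_lit 13, nat_lit 17, nat_lit 42, nat_lit 11, nat_lit 56, nat_lit 51]] [nat_lit 46, nat_lit 34, nat_lit 2, nat_lit 35, nat_lit 47] [nat_lit 0, nat_lit 1, nat_lit 0, nat_lit 2, nat_lit 3, nat_lit 2] (nat_lit 36) 1 (by decide +kernel)

theorem ycu19 (b : Base D τ s d0 64561751654400) : CU ⊤ s [[nat_lit 33, nat_lit 12, nat_lit 32], [nat_lit 28, nat_lit 4, nat_lit 29], [nat_lit 16], [nat_lit 14], [nat_lit 2]] 1 :=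
  CU.mono b.x le_rfl (ycu18 b) [[nat_lit 33, nat_lit 12, nat_lit 32], [nat_lit 28, nat_lit 4, nat_lit 29], [nat_lit 16], [nat_lit 14], [nat_lit 2]] [nat_lit 42, nat_lit 9, nat_lit 5, nat_lit 35, nat_lit 35, nat_lit 30, nat_lit 38, nat_lit 34, nat_lit 7, nat_lit 26, nat_lit 11, nat_lit 18, nat_lit 13, nat_lit 47] [[nat_lit 2], [nat_lit 0], [nat_lit 8], [nat_lit 6], [nat_lit 4]] (by decide +kernel)

theorem ycu20 (b : Base D τ s d0 64561751654400) : CU ⊤ s [[nat_lit 33, nat_lit 12, nat_lit 32], [nat_lit 28, nat_lit 4, nat_lit 29], [nat_lit 16], [nat_lit 14], [nat_lit 2], [nat_lit 4, nat_lit 0]] 1 :=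
  CU.clo b.x [[nat_lit 33, nat_lit 12, nat_lit 32], [nat_lit 28, nat_lit 4, nat_lit 29], [nat_lit 16], [nat_lit 14], [nat_lit 2], [nat_lit 4, nat_lit 0]] [] (CU.sub (ycu19 b) _ (by decide +kernel)) [nat_lit 0, nat_lit 1, nat_lit 2, nat_lit 3, nat_lit 4] [[nat_lit 0], [nat_lit 2], [nat_lit 4], [nat_lit 6], [nat_lit 8], [nat_lit 10]] [] (by decide +kernel)

theorem ync21 (b : Base D τ s d0 64561751654400) : NC ⊤ s [[nat_lit 33, nat_lit 12, nat_lit 32], [nat_lit 28, nat_lit 4, nat_lit 29], [nat_lit 16], [nat_lit 14], [nat_lit 2], [nat_lit 4, nat_lit 0]] [[nat_lit 49, nat_lit 56, nat_lit 4, nat_lit 57, nat_lit 48], [nat_lit 28, nat_lit 4, nat_lit 29], [nat_lit 16], [nat_lit 14], [nat_lit 2], [nat_lit 4, nat_lit 0]] :=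
  NC.pc b.x b.ns _ _ (SE.diff (SE.and (SE.and (SE.diff (SE.and (SE.diff (SE.diff (SE.diff (SE.diff (SE.diff (SE.diff (SE.diff (SE.diff (SE.diff SE.all (SE.tp (nat_lit 2))) (SE.tp (nat_lit 3))) (SE.tp (nat_lit 4))) (SE.tp (nat_lit 0))) (SE.tp (nat_lit 1))) (SE.pre [nat_lit 10] (SE.tp (nat_lit 4)))) (SE.fx [nat_lit 4])) (SE.fx [nat_lit 6])) (SE.fx [nat_lit 8])) (SE.fx [nat_lit 0])) (SE.fx [nat_lit 2])) (SE.fx [nat_lit 10, nat_lit 8, nat_lit 11])) (SE.fx [nat_lit 4, nat_lit 6, nat_lit 4])) (SE.fx [nat_lit 2, nat_lit 4, nat_lit 2])) (by decide +kernel)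

theorem ycu22 (b : Base D τ s d0 64561751654400) : CU ⊤ s [[nat_lit 28, nat_lit 4, nat_lit 29], [nat_lit 16], [nat_lit 14], [nat_lit 2], [nat_lit 4, nat_lit 0]] 1 :=
  CU.up b.x le_rfl b.ns (ycu20 b) (nat_lit 15) [] (SE.diff (SE.diff (SE.diff (SE.diff (SE.diff (SE.and (SE.fx [nat_lit 8]) (SE.fx [nat_lit 2, nat_lit 8, nat_lit 0, nat_lit 9, nat_lit 3])) (SE.fx [nat_lit 2])) (SE.fx [nat_lit 4])) (SE.fx [nat_lit 4, nat_lit 8, nat_lit 2, nat_lit 9, nat_lit 5])) (SE.fx [nat_lit 4, nat_lit 8, nat_lit 0, nat_lit 9, nat_lit 5])) (SE.fx [nat_lit 6, nat_lit 8, nat_lit 0, nat_lit 9, nat_lit 7])) [([nat_lit 49, nat_lit 56, nat_lit 4, nat_lit 57, nat_lit 48], [])] (nat_lit 1) 1 (NCs.cons (ync21 b) NCs.nil) (by decide +kernel)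

theorem ycu23 (b : Base D τ s d0 64561751654400) : CU ⊤ s [[nat_lit 16], [nat_lit 14], [nat_lit 2], [nat_lit 4, nat_lit 0]] 48 :=
  CU.up b.x le_rfl b.ns (ycu22 b) (nat_lit 7) [] (SE.diff (SE.diff (SE.diff (SE.fx [nat_lit 6]) (SE.fx [nat_lit 0])) (SE.fx [nat_lit 2])) (SE.fx [nat_lit 0, nat_lit 2, nat_lit 0])) [] (nat_lit 48) 48 NCs.nil (by decide +kernel)

theorem ycu24 (b : Base D τ s d0 64561751654400) : CU ⊤ s [[nat_lit 14], [nat_lit 2], [nat_lit 4, nat_lit 0]] 768 :=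
  CU.up b.x le_rfl b.ns (ycu23 b) (nat_lit 3) [] (SE.diff (SE.fx [nat_lit 4, nat_lit 2]) (SE.fx [nat_lit 0])) [] (nat_lit 16) 768 NCs.nil (by decide +kernel)

theorem ycu25 (b : Base D τ s d0 64561751654400) : CU ⊤ s [[nat_lit 2], [nat_lit 4, nat_lit 0]] 23040 :=
  CU.up b.x le_rfl b.ns (ycu24 b) (nat_lit 1) [] (SE.fx [nat_lit 2, nat_lit 0]) [] (nat_lit 30) 23040 NCs.nil (by decide +kernel)

theorem ync26 (b : Base D τ s d0 64561751654400) : NC ⊤ s [[nat_lit 2], [nat_lit 4, nat_lit 0]] [[nat_lit 6], [nat_lit 4, nat_lit 0]] :=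
  NC.pc b.x b.ns _ _ (SE.and (SE.fx [nat_lit 0]) (SE.pre [nat_lit 2] (SE.tp (nat_lit 0)))) (by decide +kernel)

theorem ycu27 (b : Base D τ s d0 64561751654400) : CU ⊤ s [[nat_lit 4, nat_lit 0]] 53084160 :=
  CU.up b.x le_rfl b.ns (ycu25 b) (nat_lit 0) [[nat_lit 4], [nat_lit 8], [nat_lit 12], [nat_lit 14], [nat_lit 30], [nat_lit 32], [nat_lit 34], [nat_lit 38], [nat_lit 40], [nat_lit 42], [nat_lit 17, nat_lit 36, nat_lit 41, nat_lit 37, nat_lit 11, nat_lit 34, nat_lit 40, nat_lit 45, nat_lit 15, nat_lit 19]] (SE.diff SE.all (SE.fx [nat_lit 0])) [([nat_lit 6], [nat_lit 0, nat_lit 1, nat_lit 3, nat_lit 4, nat_lit 5, nat_lit 6, nat_lit 9, nat_lit 4, nat_lit 7, nat_lit 5, nat_lit 8, nat_lit 10, nat_lit 2])] (nat_lit 2304) 53084160 (NCs.cons (ync26 b) NCs.nil) (by decide +kernel)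

theorem yge28 (b : Base D τ s d0 64561751654400) : GE s [[nat_lit 8], [nat_lit 12], [nat_lit 18, nat_lit 14, nat_lit 44, nat_lit 8, nat_lit 10, nat_lit 4, nat_lit 0, nat_lit 14, nat_lit 39, nat_lit 43], [nat_lit 18, nat_lit 14, nat_lit 44, nat_lit 8, nat_lit 10, nat_lit 4, nat_lit 0, nat_lit 38, nat_lit 40, nat_lit 42, nat_lit 16, nat_lit 12], [nat_lit 18, nat_lit 14, nat_lit 44, nat_lit 8, nat_lit 10, nat_lit 4, nat_lit 0, nat_lit 14, nat_lit 43]] 32 :=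
  GE.step b.x (GE.base []) _ [] (nat_lit 32) [nat_lit 0, nat_lit 1, nat_lit 4, nat_lit 2, nat_lit 3] (nat_lit 32) 32 (by decide +kernel)

theorem yge29 (b : Base D τ s d0 64561751654400) : GE s [[nat_lit 8], [nat_lit 10], [nat_lit 12], [nat_lit 14], [nat_lit 16], [nat_lit 41, nat_lit 10, nat_lit 40], [nat_lit 18, nat_lit 14, nat_lit 44, nat_lit 38, nat_lit 8, nat_lit 10, nat_lit 4, nat_lit 0, nat_lit 8, nat_lit 42, nat_lit 12]] 23040 :=
  GE.step b.x (yge28 b) _ [([nat_lit 18, nat_lit 14, nat_lit 44, nat_lit 8, nat_lit 10, nat_lit 4, nat_lit 0, nat_lit 14, nat_lit 39, nat_lit 43], [nat_lit 7, nat_lit 9, nat_lit 10, nat_lit 12]), ([nat_lit 18, nat_lit 14, nat_lit 44, nat_lit 8, nat_lit 10, nat_lit 4, nat_lit 0, nat_lit 38, nat_lit 40, nat_lit 42, nat_lit 16, nat_lit 12], [nat_lit 5, nat_lit 7, nat_lit 14, nat_lit 6, nat_lit 8, nat_lit 12]), ([nat_lit 18, nat_lit 14, nat_lit 44, nat_lit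 8, nat_lit 10, nat_lit 4, nat_lit 0, nat_lit 14, nat_lit 43], [nat_lit 11, nat_lit 16, nat_lit 5, nat_lit 12, nat_lit 10, nat_lit 14, nat_lit 8, nat_lit 6])] (nat_lit 1398) [nat_lit 1, nat_lit 3, nat_lit 4, nat_lit 0, nat_lit 2, nat_lit 3, nat_lit 5, nat_lit 0, nat_lit 2, nat_lit 3, nat_lit 1, nat_lit 4, nat_lit 0, nat_lit 5, nat_lit 3] (nat_lit 720) 23040 (by decide +kernel)

theorem yge30 (b : Base D τ s d0 64561751654400) : GE s [[nat_lit 0], [nat_lit 4], [nat_lit 8], [nat_lit 10], [nat_lit 12], [nat_lit 14], [nat_lit 16], [nat_lit 30], [nat_lit 43, nat_lit 39, nat_lit 1, nat_lit 5, nat_lit 34, nat_lit 45, nat_lit 15, nat_lit 19]] 53084160 :=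
  GE.step b.x (yge29 b) _ [([nat_lit 41, nat_lit 10, nat_lit 40], [nat_lit 15, nat_lit 6, nat_lit 14]), ([nat_lit 18, nat_lit 14, nat_lit 44, nat_lit 38, nat_lit 8, nat_lit 10, nat_lit 4, nat_lit 0, nat_lit 8, nat_lit 42, nat_lit 12], [nat_lit 16, nat_lit 15, nat_lit 16, nat_lit 15, nat_lit 17, nat_lit 18, nat_lit 2])] (nat_lit 694) [nat_lit 0, nat_lit 1, nat_lit 7, nat_lit 2, nat_lit 4, nat_lit 5, nat_lit 6, nat_lit 7, nat_lit 3, nat_lit 5, nat_lit 7, nat_lit 4, nat_lit 7, nat_lit 2, nat_lit 7, nat_lit 3, nat_lit 7] (nat_lit 2304) 53084160 (by decide +kernel)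

noncomputable def c2bW : List (List Nat) := [[nat_lit 0], [nat_lit 4], [nat_lit 8], [nat_lit 10], [nat_lit 12], [nat_lit 14], [nat_lit 16], [nat_lit 30], [nat_lit 43, nat_lit 39, nat_lit 1, nat_lit 5, nat_lit 34, nat_lit 45, nat_lit 15, nat_lit 19]]

theorem c2b (b : Base D τ s d0 64561751654400) : Cen ⊤ s [[nat_lit 4, nat_lit 0]] = genW (sv s) c2bW ∧ Nat.card (genW (sv s) c2bW) = 53084160 :=
  CU.eq b.x le_rfl (ycu27 b) (yge30 b) (nat_lit 0) (by decide +kernel)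

theorem ycu31 (b : Base D τ s d0 64561751654400) : CU ⊤ s [[nat_lit 40, nat_lit 28, nat_lit 2, nat_lit 29, nat_lit 41], [nat_lit 2], [nat_lit 0]] 3888 :=
  CU.down b.x le_rfl (zcu11 b) (nat_lit 3) [[nat_lit 6], [nat_lit 8], [nat_lit 10], [nat_lit 14], [nat_lit 16], [nat_lit 38], [nat_lit 46], [nat_lit 48], [nat_lit 50], [nat_lit 52], [nat_lit 56]] [nat_lit 40, nat_lit 28, nat_lit 2, nat_lit 29, nat_lit 41] [nat_lit 0, nat_lit 1, nat_lit 2, nat_lit 3, nat_lit 4, nat_lit 6, nat_lit 7, nat_lit 8, nat_lit 10, nat_lit 5, nat_lit 7, nat_lit 9, nat_lit 8, nat_lit 2] (nat_lit 1680) 3888 (by decide +kernel)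

theorem ycu32 (b : Base D τ s d0 64561751654400) : CU ⊤ s [[nat_lit 2, nat_lit 28, nat_lit 19, nat_lit 0, nat_lit 18, nat_lit 29, nat_lit 3], [nat_lit 40, nat_lit 28, nat_lit 2, nat_lit 29, nat_lit 41], [nat_lit 2], [nat_lit 0]] 16 :=
  CU.down b.x le_rfl (ycu31 b) (nat_lit 7) [[nat_lit 12], [nat_lit 13, nat_lit 17, nat_lit 43, nat_lit 38, nat_lit 11, nat_lit 57], [nat_lit 41, nat_lit 47, nat_lit 10, nat_lit 41, nat_lit 10, nat_lit 41]] [nat_lit 2, nat_lit 28, nat_lit 19, nat_lit 0, nat_lit 18, nat_lit 29, nat_lit 3] [nat_lit 1, nat_lit 0, nat_lit 2, nat_lit 0, nat_lit 1, nat_lit 0, nat_lit 2, nat_lit 0, nat_lit 1, nat_lit 0, nat_lit 2, nat_lit 0, nat_lit 1, nat_lit 0, nat_lit 1] (nat_lit 243) 16 (by decide +kernel)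

theorem ycu33 (b : Base D τ s d0 64561751654400) : CU ⊤ s [[nat_lit 41, nat_lit 31, nat_lit 2, nat_lit 30, nat_lit 40], [nat_lit 2, nat_lit 28, nat_lit 19, nat_lit 0, nat_lit 18, nat_lit 29, nat_lit 3], [nat_lit 40, nat_lit 28, nat_lit 2, nat_lit 29, nat_lit 41], [nat_lit 2], [nat_lit 0]] 1 :=
  CU.down b.x le_rfl (ycu32 b) (nat_lit 15) [[nat_lit 12], [nat_lit 41, nat_lit 6, nat_lit 40], [nat_lit 56, nat_lit 49, nat_lit 46, nat_lit 10, nat_lit 40, nat_lit 10, nat_lit 16, nat_lit 12], [nat_lit 42, nat_lit 38, nat_lit 15, nat_lit 5, nat_lit 34, nat_lit 38, nat_lit 31, nat_lit 42, nat_lit 45, nat_lit 31]] [nat_lit 41, nat_lit 31, nat_lit 2, nat_lit 30, nat_lit 40] [nat_lit 0, nat_lit 1, nat_lit 2, nat_lit 3] (nat_lit 16) 1 (by decide +kernel)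

theorem ycu34 (b : Base D τ s d0 64561751654400) : CU ⊤ s [[nat_lit 19, nat_lit 35, nat_lit 2, nat_lit 34, nat_lit 18], [nat_lit 38, nat_lit 14, nat_lit 39], [nat_lit 25, nat_lit 27, nat_lit 2, nat_lit 26, nat_lit 24], [nat_lit 14], [nat_lit 16]] 1 :=
  CU.mono b.x le_rfl (ycu33 b) [[nat_lit 19, nat_lit 35, nat_lit 2, nat_lit 34, nat_lit 18], [nat_lit 38, nat_lit 14, nat_lit 39], [nat_lit 25, nat_lit 27, nat_lit 2, nat_lit 26, nat_lit 24], [nat_lit 14], [nat_lit 16]] [nat_lit 13, nat_lit 38, nat_lit 15, nat_lit 5, nat_lit 34, nat_lit 15, nat_lit 38, nat_lit 31, nat_lit 17, nat_lit 7, nat_lit 55, nat_lit 20, nat_lit 34, nat_lit 23] [[nat_lit 6], [nat_lit 4], [nat_lit 8], [nat_lit 2], [nat_lit 0]] (by decide +kernel)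

theorem ycu35 (b : Base D τ s d0 64561751654400) : CU ⊤ s [[nat_lit 19, nat_lit 35, nat_lit 2, nat_lit 34, nat_lit 18], [nat_lit 38, nat_lit 14, nat_lit 39], [nat_lit 25, nat_lit 27, nat_lit 2, nat_lit 26, nat_lit 24], [nat_lit 14], [nat_lit 16], [nat_lit 8, nat_lit 4, nat_lit 0]] 1 :=
  CU.clo b.x [[nat_lit 19, nat_lit 35, nat_lit 2, nat_lit 34, nat_lit 18], [nat_lit 38, nat_lit 14, nat_lit 39], [nat_lit 25, nat_lit 27, nat_lit 2, nat_lit 26, nat_lit 24], [nat_lit 14], [nat_lit 16], [nat_lit 8, nat_lit 4, nat_lit 0]] [] (CU.sub (ycu34 b) _ (by decide +kernel)) [nat_lit 0, nat_lit 1, nat_lit 2, nat_lit 3, nat_lit 4] [[nat_lit 0], [nat_lit 2], [nat_lit 4], [nat_lit 6], [nat_lit 8], [nat_lit 10]] [] (by decide +kernel)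

theorem ycu36 (b : Base D τ s d0 64561751654400) : CU ⊤ s [[nat_lit 38, nat_lit 14, nat_lit 39], [nat_lit 25, nat_lit 27, nat_lit 2, nat_lit 26, nat_lit 24], [nat_lit 14], [nat_lit 16], [nat_lit 8, nat_lit 4, nat_lit 0]] 4 :=
  CU.up b.x le_rfl b.ns (ycu35 b) (nat_lit 15) [] (SE.diff (SE.and (SE.fx [nat_lit 8, nat_lit 6]) (SE.fx [nat_lit 0, nat_lit 2, nat_lit 0])) (SE.fx [nat_lit 8, nat_lit 2, nat_lit 9])) [] (nat_lit 4) 4 NCs.nil (by decide +kernel)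

theorem ycu37 (b : Base D τ s d0 64561751654400) : CU ⊤ s [[nat_lit 25, nat_lit 27, nat_lit 2, nat_lit 26, nat_lit 24], [nat_lit 14], [nat_lit 16], [nat_lit 8, nat_lit 4, nat_lit 0]] 36 :=
  CU.up b.x le_rfl b.ns (ycu36 b) (nat_lit 7) [] (SE.diff (SE.diff (SE.diff (SE.and (SE.fx [nat_lit 6]) (SE.fx [nat_lit 2])) (SE.fx [nat_lit 4])) (SE.fx [nat_lit 0])) (SE.tp (nat_lit 1))) [] (nat_lit 9) 36 NCs.nil (by decide +kernel)

theorem ycu38 (b : Base D τ s d0 64561751654400) : CU ⊤ s [[nat_lit 14], [nat_lit 16], [nat_lit 8, nat_lit 4, nat_lit 0]] 1152 :=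
  CU.up b.x le_rfl b.ns (ycu37 b) (nat_lit 3) [] (SE.diff (SE.fx [nat_lit 4, nat_lit 0]) (SE.fx [nat_lit 0])) [] (nat_lit 32) 1152 NCs.nil (by decide +kernel)

theorem ycu39 (b : Base D τ s d0 64561751654400) : CU ⊤ s [[nat_lit 16], [nat_lit 8, nat_lit 4, nat_lit 0]] 36864 :=
  CU.up b.x le_rfl b.ns (ycu38 b) (nat_lit 1) [] (SE.diff (SE.fx [nat_lit 2]) (SE.fx [nat_lit 0])) [] (nat_lit 32) 36864 NCs.nil (by decide +kernel)

theorem ync40 (b : Base D τ s d0 64561751654400) : NC ⊤ s [[nat_lit 16], [nat_lit 8, nat_lit 4, nat_lit 0]] [[nat_lit 0], [nat_lit 8, nat_lit 4, nat_lit 0]] :=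
  NC.pc b.x b.ns _ _ (SE.and (SE.fx [nat_lit 0]) (SE.fx [nat_lit 2])) (by decide +kernel)

theorem ycu41 (b : Base D τ s d0 64561751654400) : CU ⊤ s [[nat_lit 8, nat_lit 4, nat_lit 0]] 1769472 :=
  CU.up b.x le_rfl b.ns (ycu39 b) (nat_lit 0) [[nat_lit 34], [nat_lit 39, nat_lit 40, nat_lit 35, nat_lit 35, nat_lit 40, nat_lit 11, nat_lit 7, nat_lit 9, nat_lit 19], [nat_lit 6, nat_lit 14, nat_lit 28, nat_lit 19, nat_lit 28, nat_lit 8, nat_lit 10, nat_lit 12, nat_lit 35, nat_lit 0, nat_lit 8]] (SE.fx [nat_lit 0]) [([nat_lit 0], [nat_lit 1, nat_lit 2, nat_lit 0, nat_lit 1])] (nat_lit 48) 1769472 (NCs.cons (ync40 b) NCs.nil) (by decide +kernel)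

theorem yge42 (b : Base D τ s d0 64561751654400) : GE s [[nat_lit 16], [nat_lit 43, nat_lit 34, nat_lit 14, nat_lit 35, nat_lit 42]] 4 :=
  GE.step b.x (GE.base []) _ [] (nat_lit 1) [nat_lit 0, nat_lit 1] (nat_lit 4) 4 (by decide +kernel)

theorem yge43 (b : Base D τ s d0 64561751654400) : GE s [[nat_lit 16], [nat_lit 10, nat_lit 21, nat_lit 18, nat_lit 6, nat_lit 29, nat_lit 30, nat_lit 38, nat_lit 34, nat_lit 0, nat_lit 40, nat_lit 42, nat_lit 16], [nat_lit 15, nat_lit 36, nat_lit 38, nat_lit 34, nat_lit 0, nat_lit 14, nat_lit 16], [nat_lit 39, nat_lit 37, nat_lit 4, nat_lit 40, nat_lit 38, nat_lit 43, nat_lit 16]] 1152 :=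
  GE.step b.x (yge42 b) _ [([nat_lit 43, nat_lit 34, nat_lit 14, nat_lit 35, nat_lit 42], [nat_lit 6, nat_lit 1, nat_lit 7])] (nat_lit 6) [nat_lit 2, nat_lit 3, nat_lit 1, nat_lit 0, nat_lit 2, nat_lit 3, nat_lit 0, nat_lit 1, nat_lit 3, nat_lit 1, nat_lit 3, nat_lit 1] (nat_lit 288) 1152 (by decide +kernel)

theorem yge44 (b : Base D τ s d0 64561751654400) : GE s [[nat_lit 0], [nat_lit 4], [nat_lit 8], [nat_lit 12], [nat_lit 14], [nat_lit 16], [nat_lit 34], [nat_lit 39, nat_lit 15, nat_lit 37, nat_lit 38, nat_lit 43, nat_lit 11, nat_lit 7, nat_lit 9, nat_lit 19], [nat_lit 42, nat_lit 39, nat_lit 42, nat_lit 35, nat_lit 37, nat_lit 43, nat_lit 31, nat_lit 38, nat_lit 24, nat_lit 47, nat_lit 21, nat_lit 23], [nat_lit 10, nat_lit 21, nat_lit 18, nat_lit 6, nat_lit 29, nat_lit 30, nat_lit 38, nat_lit 34, nat_lit 0, nat_lit 40, nat_lit 42, nat_lit 16]] 1769472 :=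
  GE.step b.x (yge43 b) _ [([nat_lit 15, nat_lit 36, nat_lit 38, nat_lit 34, nat_lit 0, nat_lit 14, nat_lit 16], [nat_lit 3, nat_lit 5, nat_lit 7, nat_lit 12, nat_lit 12, nat_lit 12]), ([nat_lit 39, nat_lit 37, nat_lit 4, nat_lit 40, nat_lit 38, nat_lit 43, nat_lit 16], [nat_lit 15, nat_lit 11, nat_lit 15, nat_lit 15, nat_lit 10, nat_lit 14])] (nat_lit 896) [nat_lit 0, nat_lit 1, nat_lit 2, nat_lit 3, nat_lit 4, nat_lit 6, nat_lit 5, nat_lit 6, nat_lit 3, nat_lit 6, nat_lit 5, nat_lit 4, nat_lit 6, nat_lit 4, nat_lit 6, nat_lit 4, nat_lit 5] (nat_lit 1536) 1769472 (by decide +kernel)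

noncomputable def c2cW : List (List Nat) := [[nat_lit 0], [nat_lit 4], [nat_lit 8], [nat_lit 12], [nat_lit 14], [nat_lit 16], [nat_lit 34], [nat_lit 39, nat_lit 15, nat_lit 37, nat_lit 38, nat_lit 43, nat_lit 11, nat_lit 7, nat_lit 9, nat_lit 19], [nat_lit 42, nat_lit 39, nat_lit 42, nat_lit 35, nat_lit 37, nat_lit 43, nat_lit 31, nat_lit 38, nat_lit 24, nat_lit 47, nat_lit 21, nat_lit 23], [nat_lit 10, nat_lit 21, nat_lit 18, nat_lit 6, nat_lit 29, nat_lit 30, nat_lit 38, nat_lit 34, nat_lit 0, nat_lit 40, nat_lit 42, nat_lit 16]]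

theorem c2c (b : Base D τ s d0 64561751654400) : Cen ⊤ s [[nat_lit 8, nat_lit 4, nat_lit 0]] = genW (sv s) c2cW ∧ Nat.card (genW (sv s) c2cW) = 1769472 :=
  CU.eq b.x le_rfl (ycu41 b) (yge44 b) (nat_lit 0) (by decide +kernel)

theorem pt1 (b : Base D τ s d0 64561751654400) : orderOf (E s [nat_lit 0]) = 2 ∧ ∀ x, PT D 1 x ↔ IsConj (E s [nat_lit 0]) x :=
  b.pt_iff (tr1 b) _ _ (nat_lit 694) (by decide +kernel)

theorem pt2 (b : Base D τ s d0 64561751654400) : orderOf (E s [nat_lit 4, nat_lit 0]) = 2 ∧ ∀ x, PT D 2 x ↔ IsConj (E s [nat_lit 4, nat_lit 0]) x :=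
  b.pt_iff (tr2 b) _ _ (nat_lit 1) (by decide +kernel)

theorem pt3 (b : Base D τ s d0 64561751654400) : orderOf (E s [nat_lit 8, nat_lit 4, nat_lit 0]) = 2 ∧ ∀ x, PT D 3 x ↔ IsConj (E s [nat_lit 8, nat_lit 4, nat_lit 0]) x :=
  b.pt_iff (tr3 b) _ _ (nat_lit 1) (by decide +kernel)

theorem ync45 (b : Base D τ s d0 64561751654400) : NC ⊤ s [[nat_lit 0]] [[nat_lit 4, nat_lit 0]] :=
  NC.pc b.x b.ns _ _ (SE.fx [nat_lit 0]) (by decide +kernel)

theorem nc12 (b : Base D τ s d0 64561751654400) : NC ⊤ s [[nat_lit 0]] [[nat_lit 4, nat_lit 0]] :=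
  (ync45 b)

theorem ync46 (b : Base D τ s d0 64561751654400) : NC ⊤ s [[nat_lit 0]] [[nat_lit 8, nat_lit 4, nat_lit 0]] :=
  NC.pc b.x b.ns _ _ (SE.fx [nat_lit 0]) (by decide +kernel)

theorem nc13 (b : Base D τ s d0 64561751654400) : NC ⊤ s [[nat_lit 0]] [[nat_lit 8, nat_lit 4, nat_lit 0]] :=
  (ync46 b)

theorem ync47 (b : Base D τ s d0 64561751654400) : NC ⊤ s [[nat_lit 4, nat_lit 0]] [[nat_lit 8, nat_lit 4, nat_lit 0]] :=
  NC.pc b.x b.ns _ _ (SE.fx [nat_lit 0]) (by decide +kernel)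

theorem nc23 (b : Base D τ s d0 64561751654400) : NC ⊤ s [[nat_lit 4, nat_lit 0]] [[nat_lit 8, nat_lit 4, nat_lit 0]] :=
  (ync47 b)

theorem wn (b : Base D τ s d0 64561751654400) {x y : G} (hx : x ∈ D) (hy : y ∈ D) (h : ¬ Commute x y) :
    ∃ τ' s', Base D τ' s' d0 64561751654400 ∧ x = E s' [nat_lit 0] ∧ y = E s' [nat_lit 2] :=
  b.wlog2n (fun _ _ => tr1) [[nat_lit 0], [nat_lit 4], [nat_lit 24], [nat_lit 26], [nat_lit 28], [nat_lit 30], [nat_lit 32], [nat_lit 36], [nat_lit 48], [nat_lit 50], [nat_lit 54]] [nat_lit 0, nat_lit 1, nat_lit 2, nat_lit 3, nat_lit 4, nat_lit 5, nat_lit 6, nat_lit 9, nat_lit 8, nat_lit 10, nat_lit 3, nat_lit 4, nat_lit 7, nat_lit 8] (by decide +kernel) hx hy h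

end Cfsg.Agent.FiC.F22
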